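import Groth.Agent.S7681
import Groth.Agent.S4413
import Groth.Agent.S1617
import Groth.Agent.FlatOpen.EquiDim
import Groth.Agent.ParaFLib.PicUFD
import Groth.Agent.AlgSpCov.IntegralDim
import Groth.Agent.AmpleLib.Functorial
import Groth.Agent.AmpleFam.Pullback
import Groth.Agent.CohAff.ResOps
import Groth.Agent.FEtCat.Normal
import Groth.Prelude.Def_PicF2

/-!
# Hyperplane sections of connected covers of normal varieties
-/

set_option autoImplicit false
set_option backward.isDefEq.respectTransparency.types false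

universe u

open CategoryTheory CategoryTheory.Limits AlgebraicGeometry

namespace Groth.Agent.HyperSec

open Groth.Agent.Props.GenLocus Groth.Agent.QCoh Opposite TopologicalSpace

/-- A section of an invertible module on an integral scheme is a monomorphism as soon as it
generates somewhere. -/
theorem mono_of_nonempty_genLocus {Y : Scheme.{u}} [IsIntegral Y] {M : Y.Modules}
    (s : Coh.structureModule Y ⟶ M) (h : (CohB1.genLocus M s : Set Y).Nonempty) : Mono s := by
  refine CohAff.mono_of_app_injective s fun U => ?_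
  refine (injective_iff_map_eq_zero (s.app U).hom).mpr fun (a : Γ(Y, U)) ha => ?_
  by_cases hU : (U : Set Y).Nonempty
  · obtain ⟨y, hy⟩ := nonempty_preirreducible_inter U.2 (CohB1.genLocus M s).2 hU h
    have hne : Nonempty ((U ⊓ CohB1.genLocus M s : Y.Opens) : Scheme.{u}) := ⟨⟨y, hy⟩⟩
    have hg := (isGen_genLocus s).restrict (inf_le_right : U ⊓ CohB1.genLocus M s ≤ _)
    refine @map_injective_of_isIntegral Y _ _ _ (homOfLE (inf_le_left : U ⊓ CohB1.genLocus M s ≤ U))
      hne _ _ (Eq.trans ?_ (map_zero _).symm)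
    refine hg.injective le_rfl ?_
    rw [res_self, sec_res, zero_smul, ← app_eq]
    exact (app_res s _ a).trans ((congrArg _ ha).trans (map_zero _))
  · have : U = ⊥ := Opens.ext (Set.not_nonempty_iff_eq_empty.mp hU)
    subst this
    have : Subsingleton Γ(Y, ⊥) := inferInstance
    exact this.elim _ _

/-- A nonzero section of an invertible module generates somewhere. -/
theorem genLocus_nonempty_of_mono {Y : Scheme.{u}} [IsIntegral Y] {M : Y.Modules}
    (hM : PicF.IsInvertible M) (s : Coh.structureModule Y ⟶ M) [Mono s] :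
    (CohB1.genLocus M s : Set Y).Nonempty := by
  obtain ⟨W, e₀, hW, he₀⟩ := exists_isGen hM (genericPoint Y)
  obtain ⟨f, hf, -⟩ := he₀.exists_eq le_rfl (sec s W)
  rw [res_self] at hf
  refine ⟨genericPoint Y, ?_⟩
  have := genLocus_inf he₀ s hf
  suffices h : genericPoint Y ∈ Y.basicOpen f from (this.ge h).1
  rw [Y.mem_basicOpen f _ hW]
  refine (isUnit_iff_ne_zero (G₀ := Y.functionField)).mpr fun h0 => ?_
  have hW' : Nonempty W := ⟨⟨_, hW⟩⟩
  have hf0 : f = 0 := germ_injective_of_isIntegral Y _ hW (h0.trans (map_zero _).symm)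
  subst hf0
  have hinj : Function.Injective (s.app W) := by
    have : Mono ((Scheme.Modules.toPresheaf Y).map s) := inferInstance
    have := (NatTrans.mono_iff_mono_app _).mp this (op W)
    exact (AddCommGrpCat.mono_iff_injective _).mp this
  have h10 : (1 : Γ(Y, W)) = 0 :=
    hinj ((hf.trans (zero_smul _ _)).trans (map_zero _).symm)
  exact zero_ne_one h10.symm


/-- The preimage of the zero scheme of a nonzero section of an ample module in an integral normal scheme
finite and surjective over a proper variety of dimension at least two is connected. -/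
theorem isConnected_preimage (k : Type u) [Field k] {X Z : Scheme.{u}} (f : X ⟶ Spec (CommRingCat.of k))
    [IsProper f] [IsIntegral X] [IsIntegral Z] (hZ : Pi1.IsNormalScheme Z) (ν : Z ⟶ X) [IsFinite ν]
    [Surjective ν] (hdim : (2 : WithBot ℕ∞) ≤ topologicalKrullDim X)
    (L : X.Modules) (hL : CohB1.IsAmple L) (s : Coh.structureModule X ⟶ L) (hs : Mono s) :
    _root_.IsConnected (ν ⁻¹' ((PicF2.zeroScheme L s).support : Set X)) := by
  let _ : Z.Over (Spec (CommRingCat.of k)) := ⟨ν ≫ f⟩
  have : IsProper (Z ↘ Spec (CommRingCat.of k)) := inferInstanceAs (IsProper (ν ≫ f))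
  have : IsLocallyNoetherian Z := LocallyOfFiniteType.isLocallyNoetherian (Z ↘ Spec (CommRingCat.of k))
  have hdepth : ∀ y : Z, IsClosed ({y} : Set Z) →
      2 ≤ LocCoh.depth (Z.presheaf.stalk y) (Z.presheaf.stalk y) := by
    intro y hy
    have hmax : ∀ x : Z, FlatOpen.EquiDim.Max x →
        x = genericPoint _ := fun x hx => (hx _ (genericPoint_specializes x)).symm
    obtain ⟨c, hc⟩ : ∃ c : ℕ, ∀ x : Z, FlatOpen.EquiDim.Max x → VarDim.dimPt k Z x = c :=
      ⟨_, fun x hx => by rw [hmax x hx]⟩
    obtain ⟨-, -, -, hloc⟩ := FlatOpen.EquiDim.coheight_add_dimPt k hc y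
    have hdimX' : topologicalKrullDim Z = (c : WithBot ℕ∞) := by
      have := (FlatOpen.EquiDim.irreducibleComponents_dimPt_iff k c).mpr hc Set.univ
        (by rw [irreducibleComponents_eq_singleton]; exact Set.mem_singleton _)
      rwa [IsHomeomorph.topologicalKrullDim_eq _ (Homeomorph.Set.univ _).isHomeomorph] at this
    have h2 : (2 : WithBot ℕ∞) ≤ ringKrullDim (Z.presheaf.stalk y) := by
      rw [(S1617.result k _ y hy).symm.trans hloc, ← hdimX']
      exact hdim.trans (AlgSpCov.IntegralDim.topologicalKrullDim_le_of_closed_surjective ν ν.isClosedMap)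
    have := (hZ y).1
    have := (hZ y).2
    exact ParaFLib.PicUFD.two_le_depth_of_normal _ h2
  have hL' : CohB1.IsAmple ((Scheme.Modules.pullback ν).obj L) :=
    AmpleLib.isAmple_pullback_of_qaMor ν (AmpleFam.Pullback.qaMor_of_isAffineHom ν) hL
  let e : Coh.structureModule Z ≅ (Scheme.Modules.pullback ν).obj (Coh.structureModule X) :=
    (QCoh.pullbackUnitIso ν).symm
  let s' := e.hom ≫ (Scheme.Modules.pullback ν).map s
  have hgen : CohB1.genLocus _ s' = ν ⁻¹ᵁ CohB1.genLocus L s := S4413.result ν L hL.1 s e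
  obtain ⟨x₀, hx₀⟩ := genLocus_nonempty_of_mono hL.1 s
  obtain ⟨y₀, rfl⟩ := ν.surjective x₀
  have hs' : Mono s' := mono_of_nonempty_genLocus s' ⟨y₀, hgen ▸ hx₀⟩
  have hconn := S7681.result k Z _ hL' s' hs' hdepth
  let i := (PicF2.zeroScheme ((Scheme.Modules.pullback ν).obj L) s').subschemeι
  have hrange : Set.range i = ν ⁻¹' ((PicF2.zeroScheme L s).support : Set X) := by
    rw [Scheme.IdealSheafData.range_subschemeι]
    ext x
    simp only [Set.mem_preimage, SetLike.mem_coe, S7681.mem_support_iff hL.1, S7681.mem_support_iff hL'.1, hgen]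
    rfl
  rw [← hrange]
  exact isConnected_range i.continuous

/-- The form for connected finite étale covers. -/
theorem isConnected_cover (k : Type u) [Field k] {X : Scheme.{u}} (f : X ⟶ Spec (CommRingCat.of k))
    [IsProper f] [IsIntegral X] (hN : Pi1.IsNormalScheme X)
    (hdim : (2 : WithBot ℕ∞) ≤ topologicalKrullDim X)
    (L : X.Modules) (hL : CohB1.IsAmple L) (s : Coh.structureModule X ⟶ L) (hs : Mono s)
    (Y : FEt.Cat X) [ConnectedSpace Y.left] :
    _root_.IsConnected (Y.hom ⁻¹' ((PicF2.zeroScheme L s).support : Set X)) := by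
  have : IsFinite Y.hom := Y.prop.1
  have : Etale Y.hom := Y.prop.2
  have : IsIntegral Y.left := FEtCat.Normal.isIntegral hN Y
  have : Surjective Y.hom := ⟨fun (x : X) => by
    have hc : IsClopen (X := X) (Set.range Y.hom) :=
      ⟨Y.hom.isClosedMap.isClosed_range, Y.hom.isOpenMap.isOpen_range⟩
    exact (hc.eq_univ ⟨_, genericPoint (Y.left : Scheme.{u}), rfl⟩).ge (Set.mem_univ x)⟩
  exact isConnected_preimage (Z := Y.left) k f (EtNormal.isNormalScheme_of_etale Y.hom hN) Y.hom hdim L hL s hs

end Groth.Agent.HyperSec
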